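import Mathlib.LinearAlgebra.Matrix.Kronecker
import Mathlib.LinearAlgebra.Matrix.SchurComplement
import Mathlib.LinearAlgebra.Matrix.Charpoly.Coeff
import Mathlib.Algebra.Polynomial.Expand
import Mathlib.LinearAlgebra.Matrix.Block
import Mathlib.Tactic

/-!
# Reverse characteristic polynomial of a cyclic block matrix (S3133)

`B = S ⊗ 1 + E ⊗ A` with `S` the shift and `E = E_{0,n-1}`.  With `P₀ = (1 - X S)⁻¹` explicit,
`(P₀ ⊗ 1)(1 - X B) = 1 - (c r) ⊗ A` with `c r` of rank one, and the Weinstein–Aronszajn identity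
gives `det = det (1 - X^n A)`.
-/

open Polynomial
open scoped Kronecker

namespace Groth.Agent.Lib.Helper24.Mat

variable {R : Type*} [CommRing R] {m : Type*} [Fintype m] [DecidableEq m]

section

variable (n : ℕ)

/-- shift -/
noncomputable def S : Matrix (Fin n) (Fin n) R[X] :=
  Matrix.of fun i j => if j.val + 1 = i.val then 1 else 0

/-- the corner unit `E_{0,n-1}` -/
noncomputable def E : Matrix (Fin n) (Fin n) R[X] :=
  Matrix.of fun i j => if i.val = 0 ∧ j.val = n - 1 then 1 else 0

/-- explicit inverse of `1 - X S` -/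
noncomputable def P₀ : Matrix (Fin n) (Fin n) R[X] :=
  Matrix.of fun i j => if j ≤ i then X ^ (i.val - j.val) else 0

theorem P₀_mul : (P₀ n : Matrix (Fin n) (Fin n) R[X]) * (1 - (X : R[X]) • S n) = 1 := by
  apply Matrix.ext
  intro i j
  rw [Matrix.mul_apply]
  have hterm : ∀ l : Fin n, (P₀ n : Matrix (Fin n) (Fin n) R[X]) i l
        * ((1 - (X : R[X]) • S n : Matrix (Fin n) (Fin n) R[X])) l j
      = (if l = j then (P₀ n : Matrix (Fin n) (Fin n) R[X]) i l else 0)
        - (if j.val + 1 = l.val then X * (P₀ n : Matrix (Fin n) (Fin n) R[X]) i l else 0) := by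
    intro l
    simp only [Matrix.sub_apply, Matrix.smul_apply, S, Matrix.of_apply, smul_eq_mul,
      Matrix.one_apply]
    split_ifs <;> ring
  simp_rw [hterm]
  rw [Finset.sum_sub_distrib, Finset.sum_ite_eq' Finset.univ j, if_pos (Finset.mem_univ _)]
  by_cases hj : j.val + 1 < n
  · rw [Finset.sum_eq_single (⟨j.val + 1, hj⟩ : Fin n)]
    · simp only [if_true, P₀, Matrix.of_apply, Matrix.one_apply, Fin.le_def, Fin.ext_iff]
      by_cases h1 : j.val ≤ i.val
      · by_cases h2 : j.val + 1 ≤ i.val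
        · rw [if_pos h1, if_pos h2, if_neg (by omega)]
          have : i.val - j.val = (i.val - (j.val + 1)) + 1 := by omega
          rw [this, pow_succ]; ring
        · rw [if_pos h1, if_neg h2, if_pos (by omega)]
          have : i.val - j.val = 0 := by omega
          rw [this]; simp
      · rw [if_neg h1, if_neg (by omega), if_neg (by omega)]; simp
    · intro l _ hl
      rw [if_neg]
      intro h
      apply hl
      exact Fin.ext h.symm
    · intro h; exact absurd (Finset.mem_univ _) h
  · rw [Finset.sum_eq_zero]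
    · simp only [P₀, Matrix.of_apply, Matrix.one_apply, Fin.le_def, Fin.ext_iff, sub_zero]
      have hi := i.isLt
      have hjn := j.isLt
      by_cases h1 : j.val ≤ i.val
      · rw [if_pos h1, if_pos (by omega)]
        have : i.val - j.val = 0 := by omega
        rw [this]; simp
      · rw [if_neg h1, if_neg (by omega)]
    · intro l _
      rw [if_neg]
      have := l.isLt
      omega

theorem det_P₀ : (P₀ n : Matrix (Fin n) (Fin n) R[X]).det = 1 := by
  rw [Matrix.det_of_lowerTriangular]
  · apply Finset.prod_eq_one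
    intro i _
    simp [P₀]
  · intro i j hij
    have hij' : i < j := hij
    simp only [P₀, Matrix.of_apply]
    rw [if_neg (not_le.2 hij')]

/-- column vector `(X^{i+1})` -/
noncomputable def cvec : Matrix (Fin n) Unit R[X] := Matrix.of fun i _ => X ^ (i.val + 1)

/-- row vector `e_{n-1}` -/
noncomputable def rvec : Matrix Unit (Fin n) R[X] :=
  Matrix.of fun _ j => if j.val = n - 1 then 1 else 0

theorem P₀_mul_E (hn : 1 ≤ n) :
    (P₀ n : Matrix (Fin n) (Fin n) R[X]) * ((X : R[X]) • E n) = cvec n * rvec n := by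
  apply Matrix.ext
  intro i j
  have hR : (cvec n * rvec n : Matrix (Fin n) (Fin n) R[X]) i j = cvec n i () * rvec n () j := by
    rw [Matrix.mul_apply]
    exact Fintype.sum_unique _
  rw [hR, Matrix.mul_apply]
  rw [Finset.sum_eq_single (⟨0, by omega⟩ : Fin n)]
  · simp only [P₀, E, cvec, rvec, Matrix.of_apply, Matrix.smul_apply, smul_eq_mul, Fin.le_def]
    rw [if_pos (Nat.zero_le _)]
    by_cases hj : j.val = n - 1
    · simp [hj, pow_succ]
    · simp [hj]
  · intro l _ hl
    have : l.val ≠ 0 := fun h => hl (Fin.ext h)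
    simp [E, this]
  · intro h; exact absurd (Finset.mem_univ _) h

theorem rvec_mul_cvec (hn : 1 ≤ n) :
    (rvec n : Matrix Unit (Fin n) R[X]) * cvec n = Matrix.of fun _ _ => X ^ n := by
  apply Matrix.ext
  intro u v
  rw [Matrix.mul_apply, Finset.sum_eq_single (⟨n - 1, by omega⟩ : Fin n)]
  · simp only [rvec, cvec, Matrix.of_apply, if_true, one_mul]
    congr 1; omega
  · intro l _ hl
    have : l.val ≠ n - 1 := fun h => hl (Fin.ext h)
    simp [rvec, this]
  · intro h; exact absurd (Finset.mem_univ _) h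

end

variable (A : Matrix m m R) (n : ℕ)

/-- the cyclic block matrix -/
def Bmat : Matrix (Fin n × m) (Fin n × m) R :=
  Matrix.of fun (p q : Fin n × m) =>
    if p.1.val = 0 then (if q.1.val = n - 1 then A p.2 q.2 else 0)
    else (if q.1.val + 1 = p.1.val ∧ p.2 = q.2 then 1 else 0)

theorem Bmat_map :
    (Bmat A n).map C = (S n : Matrix (Fin n) (Fin n) R[X]) ⊗ₖ (1 : Matrix m m R[X])
      + E n ⊗ₖ A.map C := by
  apply Matrix.ext
  rintro ⟨i, a⟩ ⟨j, b⟩
  simp only [Bmat, S, E, Matrix.map_apply, Matrix.of_apply, Matrix.add_apply,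
    Matrix.kroneckerMap_apply, Matrix.one_apply]
  by_cases hi : i.val = 0
  · by_cases hj : j.val = n - 1
    · simp [hi, hj]
    · simp [hi, hj]
  · by_cases h1 : j.val + 1 = i.val
    · by_cases h2 : a = b
      · simp [hi, h1, h2]
      · simp [hi, h1, h2]
    · simp [hi, h1]

theorem key (hn : 1 ≤ n) :
    (1 - (X : R[X]) • (Bmat A n).map C).det = (1 - (X : R[X]) ^ n • A.map C).det := by
  set Ax : Matrix m m R[X] := A.map C with hAx
  have h1 : (1 : Matrix (Fin n × m) (Fin n × m) R[X]) - (X : R[X]) • (Bmat A n).map C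
      = (1 - (X : R[X]) • S n) ⊗ₖ (1 : Matrix m m R[X]) - ((X : R[X]) • E n) ⊗ₖ Ax := by
    apply Matrix.ext
    rintro ⟨i, a⟩ ⟨j, b⟩
    simp only [Bmat_map, Matrix.sub_apply, Matrix.smul_apply, Matrix.add_apply,
      Matrix.kroneckerMap_apply, Matrix.one_apply, Prod.mk.injEq, smul_eq_mul]
    by_cases hij : i = j <;> by_cases hab : a = b <;> simp [hij, hab, hAx] <;> ring
  have h2 : ((P₀ n : Matrix (Fin n) (Fin n) R[X]) ⊗ₖ (1 : Matrix m m R[X]))
      * ((1 : Matrix (Fin n × m) (Fin n × m) R[X]) - (X : R[X]) • (Bmat A n).map C)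
      = 1 - (cvec n ⊗ₖ (1 : Matrix m m R[X])) * (rvec n ⊗ₖ Ax) := by
    rw [h1, Matrix.mul_sub, ← Matrix.mul_kronecker_mul, ← Matrix.mul_kronecker_mul, P₀_mul,
      P₀_mul_E n hn, Matrix.one_mul, Matrix.one_kronecker_one, ← Matrix.mul_kronecker_mul,
      Matrix.one_mul]
  have h3 : ((P₀ n : Matrix (Fin n) (Fin n) R[X]) ⊗ₖ (1 : Matrix m m R[X])).det = 1 := by
    rw [Matrix.det_kronecker, det_P₀, one_pow, Matrix.det_one, one_pow, one_mul]
  have h4 := congrArg Matrix.det h2
  rw [Matrix.det_mul, h3, one_mul, Matrix.det_one_sub_mul_comm, ← Matrix.mul_kronecker_mul,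
    rvec_mul_cvec n hn, Matrix.mul_one] at h4
  rw [h4]
  -- reindex `Unit × m ≃ m`
  have h5 : (1 - (X : R[X]) ^ n • Ax)
      = ((1 : Matrix (Unit × m) (Unit × m) R[X])
          - (Matrix.of fun (_ _ : Unit) => (X : R[X]) ^ n) ⊗ₖ Ax).submatrix
          (Equiv.punitProd m).symm (Equiv.punitProd m).symm := by
    apply Matrix.ext
    intro a b
    simp [Matrix.one_apply, Matrix.kroneckerMap_apply]
  rw [h5, Matrix.det_submatrix_equiv_self]

theorem expand_charpolyRev :
    Polynomial.expand R n A.charpolyRev = (1 - (X : R[X]) ^ n • A.map C).det := by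
  rw [Matrix.charpolyRev, AlgHom.map_det]
  congr 1
  apply Matrix.ext
  intro a b
  rw [AlgHom.mapMatrix_apply]
  by_cases hab : a = b
  · simp [Matrix.one_apply, hab]
  · simp [Matrix.one_apply, hab]

theorem charpolyRev_Bmat (hn : 1 ≤ n) :
    (Bmat A n).charpolyRev = Polynomial.expand R n A.charpolyRev := by
  rw [expand_charpolyRev, ← key A n hn, Matrix.charpolyRev]

end Groth.Agent.Lib.Helper24.Mat
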